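import Mathlib
import Cfsg.Agent.Lib.Solvable.Basic
import Cfsg.Agent.Lib.Solvable.FPFNilpotent
import Cfsg.Agent.Lib.Solvable.FrattiniFitting
import Cfsg.Agent.Lib.PGroup.Frattini

/-!
# Sections of a group with an automorphism of order `p` with few fixed points

Fixed points do not grow in quotients; hence abelian sections of exponent `p ^ k`, and all
sections of exponent `p ^ k` of a `p`-group, are bounded in terms of `p`, `n`, `k`.
-/

set_option autoImplicit false

namespace CfsgLib.Solvable.AlperinDerived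

open CfsgLib.Solvable.FPFNilpotent

variable {G : Type*} [Group G]

/-- The fixed subgroup of an endomorphism. -/
abbrev fixSub (φ : G →* G) : Subgroup G := φ.eqLocus (MonoidHom.id G)

theorem card_fixSub_restrict_le [Finite G] (φ : G →* G) {H : Subgroup G} (h : Invariant φ H) :
    Nat.card (fixSub (restrict h)) ≤ Nat.card (fixSub φ) :=
  Nat.card_le_card_of_injective (fun x => ⟨x.1.1, congrArg Subtype.val x.2⟩)
    fun _ _ e => Subtype.ext (Subtype.ext (congrArg Subtype.val e :))

theorem restrict_periodic {φ : G →* G} {p : ℕ} (hper : ∀ x, φ^[p] x = x) {H : Subgroup G}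
    (h : Invariant φ H) (x : H) : (restrict h)^[p] x = x :=
  Subtype.ext (by rw [restrict_iterate, hper])

/-- The endomorphism of a quotient. -/
def quot {φ : G →* G} {N : Subgroup G} [N.Normal] (h : Invariant φ N) : G ⧸ N →* G ⧸ N :=
  QuotientGroup.map N N φ fun x hx => h x hx

theorem quot_mk {φ : G →* G} {N : Subgroup G} [N.Normal] (h : Invariant φ N) (g : G) :
    quot h (g : G ⧸ N) = (φ g : G ⧸ N) := rfl

theorem quot_periodic {φ : G →* G} {p : ℕ} (hper : ∀ x, φ^[p] x = x) {N : Subgroup G} [N.Normal]
    (h : Invariant φ N) (x : G ⧸ N) : (quot h)^[p] x = x := by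
  induction x using QuotientGroup.induction_on with
  | H g =>
    have : ∀ i, (quot h)^[i] (g : G ⧸ N) = ((φ^[i] g : G) : G ⧸ N) := by
      intro i
      induction i with
      | zero => rfl
      | succ i ih => rw [Function.iterate_succ_apply', Function.iterate_succ_apply', ih, quot_mk]
    rw [this, hper]

/-- Fixed points do not grow in quotients. -/
theorem card_fixSub_quot_le [Finite G] {φ : G →* G} {N : Subgroup G} [N.Normal]
    (h : Invariant φ N) : Nat.card (fixSub (quot h)) ≤ Nat.card (fixSub φ) := by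
  set Y : Subgroup G := (fixSub (quot h)).comap (QuotientGroup.mk' N) with hY
  have hmem : ∀ y : Y, (y : G)⁻¹ * φ y ∈ N := fun y => QuotientGroup.eq.1 (Eq.symm y.2 :)
  have hcard : Nat.card Y = Nat.card (fixSub (quot h)) * Nat.card N := Basic.card_comap_mk N _
  -- `y ↦ y⁻¹ φ y` has fibres inside cosets of the fixed subgroup
  let f : Y → N := fun y => ⟨(y : G)⁻¹ * φ y, hmem y⟩
  have hle : Nat.card Y ≤ Nat.card N * Nat.card (fixSub φ) := by
    classical
    let r : N → G := fun a => if ha : ∃ y : Y, f y = a then (ha.choose : G) else 1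
    rw [← Nat.card_prod]
    refine Nat.card_le_card_of_injective (fun y => (f y, ⟨(y : G) * (r (f y))⁻¹, ?_⟩))
      fun y y' e => ?_
    · have hex : ∃ y' : Y, f y' = f y := ⟨y, rfl⟩
      have hr : r (f y) = (hex.choose : G) := dif_pos hex
      have h2 := congrArg Subtype.val hex.choose_spec
      show φ ((y : G) * (r (f y))⁻¹) = (y : G) * (r (f y))⁻¹
      rw [hr, map_mul, map_inv]
      change (hex.choose : G)⁻¹ * φ hex.choose = (y : G)⁻¹ * φ y at h2
      calc φ (y : G) * (φ (hex.choose : G))⁻¹
          = (y : G) * ((y : G)⁻¹ * φ y) * (φ (hex.choose : G))⁻¹ := by group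
        _ = (y : G) * (hex.choose : G)⁻¹ := by rw [← h2]; group
    · simp only [Prod.mk.injEq, Subtype.mk.injEq] at e
      obtain ⟨e1, e2⟩ := e
      rw [e1] at e2
      exact Subtype.ext (mul_right_cancel e2)
  rw [hcard, mul_comm (Nat.card N)] at hle
  exact Nat.le_of_mul_le_mul_right hle Nat.card_pos

/-- An endomorphism with small kernel whose power is trivial bounds the group. -/
theorem card_le_pow_of_ker {A : Type*} [Group A] [Finite A] (f : A →* A) {c k : ℕ}
    (hk : ∀ x, f^[k] x = 1) (hc : Nat.card f.ker ≤ c) : Nat.card A ≤ c ^ k := by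
  suffices ∀ (j : ℕ) (S : Subgroup A), (∀ x ∈ S, f^[j] x = 1) → Nat.card S ≤ c ^ j by
    simpa using this k ⊤ fun x _ => hk x
  intro j
  induction j with
  | zero =>
    intro S hS
    rw [pow_zero, (Subgroup.eq_bot_iff_forall S).2 fun x hx => hS x hx, Subgroup.card_bot]
  | succ j ih =>
    intro S hS
    let g : S →* A := f.comp S.subtype
    have h1 : Nat.card g.range ≤ c ^ j := by
      refine ih _ ?_
      rintro _ ⟨x, rfl⟩
      exact hS x x.2
    have h2 : Nat.card g.ker ≤ c := le_trans
      (Nat.card_le_card_of_injective (fun x => (⟨x.1.1, x.2⟩ : f.ker))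
        fun x y e => Subtype.ext (Subtype.ext (congrArg Subtype.val e :))) hc
    rw [← Subgroup.card_mul_index g.ker, Subgroup.index_ker, pow_succ']
    exact Nat.mul_le_mul h2 h1

variable {p : ℕ}

/-- An elementary abelian group with an automorphism of order `p` with few fixed points. -/
theorem card_le_of_exponent_prime [hp : Fact p.Prime] {A : Type*} [Group A] [Finite A]
    (hcomm : ∀ a b : A, a * b = b * a) (hA : ∀ a : A, a ^ p = 1) (φ : A →* A)
    (hper : ∀ x, φ^[p] x = x) {c : ℕ} (hc : Nat.card (fixSub φ) ≤ c) : Nat.card A ≤ c ^ p := by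
  letI : CommGroup A := { (inferInstance : Group A) with mul_comm := hcomm }
  let D : A →* A := MonoidHom.mk' (fun a => φ a / a) fun a b => by
    rw [map_mul, mul_div_mul_comm]
  refine card_le_pow_of_ker D (fun x => ?_) (le_trans ?_ hc)
  · let e : AddMonoid.End (Additive A) := MonoidHom.toAdditive φ
    have he : e ^ p = 1 := by
      refine DFunLike.ext _ _ fun y => ?_
      rw [AddMonoid.End.coe_pow]
      exact hper (Additive.toMul y)
    obtain ⟨r, hr⟩ := Commute.exists_add_pow_prime_eq (p := p) hp.out (Commute.one_right (e - 1))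
    rw [sub_add_cancel, he, one_pow] at hr
    have hp0 : ∀ y : Additive A, p • y = 0 := fun y => hA (Additive.toMul y)
    have h1 : (e - 1) ^ p = -((p : AddMonoid.End (Additive A)) * (e - 1) * 1 * r) := by
      rw [eq_neg_iff_add_eq_zero]
      exact add_right_cancel (b := (1 : AddMonoid.End (Additive A))) (by
        rw [zero_add, add_right_comm]; exact hr.symm)
    have h2 : ((e - 1) ^ p : AddMonoid.End (Additive A)) (Additive.ofMul x) = 0 := by
      rw [h1, mul_assoc, mul_assoc]
      show -((p : AddMonoid.End (Additive A)) _) = 0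
      rw [AddMonoid.End.natCast_apply, hp0, neg_zero]
    rw [AddMonoid.End.coe_pow] at h2
    exact h2
  · exact Nat.card_le_card_of_injective
      (fun x => ⟨x.1, (div_eq_one.1 x.2 :)⟩) fun _ _ e => Subtype.ext (congrArg Subtype.val e :)

/-- An abelian `p`-group of bounded exponent. -/
theorem card_le_of_exponent_pow [hp : Fact p.Prime] {A : Type*} [Group A] [Finite A]
    (hcomm : ∀ a b : A, a * b = b * a) {k : ℕ} (hA : ∀ a : A, a ^ p ^ k = 1) (φ : A →* A)
    (hper : ∀ x, φ^[p] x = x) {c : ℕ} (hc : Nat.card (fixSub φ) ≤ c) :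
    Nat.card A ≤ (c ^ p) ^ k := by
  letI : CommGroup A := { (inferInstance : Group A) with mul_comm := hcomm }
  refine card_le_pow_of_ker (powMonoidHom p : A →* A) (fun x => ?_) ?_
  · have : ∀ j, (powMonoidHom p : A →* A)^[j] x = x ^ p ^ j := by
      intro j
      induction j with
      | zero => simp
      | succ j ih => rw [Function.iterate_succ_apply', ih, powMonoidHom_apply, ← pow_mul, ← pow_succ]
    rw [this, hA]
  · have hinv : Invariant φ (powMonoidHom p : A →* A).ker := fun x hx => by
      rw [MonoidHom.mem_ker, powMonoidHom_apply] at hx ⊢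
      rw [← map_pow, hx, map_one]
    exact card_le_of_exponent_prime (fun a b => mul_comm a b)
      (fun a => Subtype.ext (MonoidHom.mem_ker.1 a.2)) (restrict hinv) (restrict_periodic hper hinv)
      ((card_fixSub_restrict_le φ hinv).trans hc)

/-- The bound for a `p`-group of exponent `p ^ k`. -/
def bnd (p c k : ℕ) : ℕ := (c ^ p) ^ k * ((c ^ p) ^ k) ^ ((c ^ p) ^ k)

/-- A fixed point for a periodic endomorphism of prime period of a `p`-group. -/
theorem exists_fixed_ne_one [hp : Fact p.Prime] [Finite G] (hG : IsPGroup p G) [Nontrivial G]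
    (φ : G →* G) (hper : ∀ x, φ^[p] x = x) : ∃ x : G, x ≠ 1 ∧ φ x = x := by
  have hinv : Function.Injective φ := fun a b h => by
    have h1 : p = p - 1 + 1 := by have := hp.out.pos; omega
    rw [← hper a, ← hper b, h1, Function.iterate_succ_apply, Function.iterate_succ_apply, h]
  let e : Equiv.Perm G := Equiv.ofBijective φ (Finite.injective_iff_bijective.mp hinv)
  have he : e ^ p ^ 1 = 1 := Equiv.ext fun x => by
    rw [pow_one, Equiv.Perm.coe_pow]; exact hper x
  haveI := Fintype.ofFinite G
  obtain ⟨k, hk⟩ := hG.exists_card_eq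
  have hk0 : k ≠ 0 := by
    rintro rfl
    exact absurd hk (by simpa using (Finite.one_lt_card (α := G)).ne')
  have hdvd : p ∣ Fintype.card G := by
    rw [← Nat.card_eq_fintype_card, hk]; exact dvd_pow_self p hk0
  obtain ⟨b, hb, hb'⟩ := Equiv.Perm.exists_fixed_point_of_prime' hdvd he (a := 1) (map_one φ)
  exact ⟨b, hb', hb⟩

/-- A `p`-group of exponent `p ^ k` is bounded. -/
theorem card_le_bnd [hp : Fact p.Prime] [Finite G] (hG : IsPGroup p G) {k : ℕ}
    (hexp : ∀ x : G, x ^ p ^ k = 1) (φ : G →* G) (hper : ∀ x, φ^[p] x = x) {c : ℕ}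
    (hc : Nat.card (fixSub φ) ≤ c) : Nat.card G ≤ bnd p c k := by
  classical
  have hinj : Function.Injective φ := fun a b h => by
    have h1 : p = p - 1 + 1 := by have := hp.out.pos; omega
    rw [← hper a, ← hper b, h1, Function.iterate_succ_apply, Function.iterate_succ_apply, h]
  obtain ⟨A, ⟨hAn, hAi, hAc⟩, hmax⟩ := Set.Finite.exists_maximal
    (Set.toFinite {A : Subgroup G | A.Normal ∧ Invariant φ A ∧ ∀ a ∈ A, ∀ b ∈ A, a * b = b * a})
    ⟨⊥, inferInstance, fun x hx => by rw [Subgroup.mem_bot] at hx ⊢; rw [hx, map_one],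
      fun a ha b hb => by rw [Subgroup.mem_bot] at ha hb; rw [ha, hb]⟩
  haveI := hAn
  -- the maximal one contains its centralizer
  have hCA : Subgroup.centralizer (A : Set G) ≤ A := by
    by_contra hne
    set π := QuotientGroup.mk' A
    set Cb : Subgroup (G ⧸ A) := (Subgroup.centralizer (A : Set G)).map π
    haveI : Cb.Normal := Subgroup.Normal.map inferInstance _ (QuotientGroup.mk'_surjective A)
    have hCb : Cb ≠ ⊥ := by
      rw [Ne, Subgroup.map_eq_bot_iff, QuotientGroup.ker_mk']; exact hne
    haveI := hG.to_quotient A |>.isNilpotent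
    have hZ := FrattiniFitting.inf_center_ne_bot Cb hCb
    set Z := Cb ⊓ Subgroup.center (G ⧸ A)
    have hCi := invariant_centralizer hinj hAi
    have hZi : Invariant (quot hAi) Z := by
      have hq : Function.Injective (quot hAi) := fun a b h => by
        have h1 : p = p - 1 + 1 := by have := hp.out.pos; omega
        rw [← quot_periodic hper hAi a, ← quot_periodic hper hAi b, h1,
          Function.iterate_succ_apply, Function.iterate_succ_apply, h]
      intro z hz
      refine ⟨?_, invariant_characteristic hq (Subgroup.center (G ⧸ A)) z hz.2⟩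
      obtain ⟨g, hg, rfl⟩ := hz.1
      exact ⟨φ g, hCi g hg, rfl⟩
    haveI : Nontrivial Z := (Subgroup.nontrivial_iff_ne_bot Z).2 hZ
    obtain ⟨⟨z, hz⟩, hz1, hzfix⟩ := exists_fixed_ne_one ((hG.to_quotient A).to_subgroup Z)
      (restrict hZi) (restrict_periodic (quot_periodic hper hAi) hZi)
    have hzfix' : quot hAi z = z := congrArg Subtype.val hzfix
    obtain ⟨g, hg, hgz⟩ := hz.1
    have hAA : A ≤ (Subgroup.zpowers z).comap π := fun a ha => by
      rw [Subgroup.mem_comap, show π a = 1 from (QuotientGroup.eq_one_iff a).2 ha]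
      exact one_mem _
    have hnew : ((Subgroup.zpowers z).comap π).Normal ∧ Invariant φ ((Subgroup.zpowers z).comap π) ∧
        ∀ a ∈ (Subgroup.zpowers z).comap π, ∀ b ∈ (Subgroup.zpowers z).comap π, a * b = b * a := by
      haveI : (Subgroup.zpowers z).Normal := ⟨fun x hx y => by
        obtain ⟨i, rfl⟩ := hx
        have := Subgroup.mem_center_iff.1 ((Subgroup.center (G ⧸ A)).zpow_mem hz.2 i) y
        simp only [this, mul_inv_cancel_right]
        exact ⟨i, rfl⟩⟩
      refine ⟨inferInstance, fun x hx => ?_, fun a ha b hb => ?_⟩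
      · obtain ⟨i, hi⟩ := hx
        refine ⟨i, ?_⟩
        show z ^ i = quot hAi (π x)
        rw [← show z ^ i = π x from hi, map_zpow, hzfix']
      · have hdec : ∀ x ∈ (Subgroup.zpowers z).comap π, ∃ i : ℤ, ∃ a₀ ∈ A, x = g ^ i * a₀ := by
          rintro x ⟨i, hi⟩
          refine ⟨i, (g ^ i)⁻¹ * x, QuotientGroup.eq.1 ?_, by group⟩
          show π (g ^ i) = π x
          rw [map_zpow, hgz]; exact hi
        obtain ⟨i, a₀, ha₀, rfl⟩ := hdec a ha
        obtain ⟨j, b₀, hb₀, rfl⟩ := hdec b hb
        have h1 : ∀ (m : ℤ) (x : G), x ∈ A → Commute (g ^ m) x := fun m x hx =>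
          Commute.zpow_left (Subgroup.mem_centralizer_iff.1 hg x hx).symm m
        have h2 : Commute a₀ b₀ := hAc a₀ ha₀ b₀ hb₀
        exact ((Commute.zpow_zpow_self g i j).mul_right (h1 i b₀ hb₀)).mul_left
          ((h1 j a₀ ha₀).symm.mul_right h2)
    have hle := hmax hnew hAA
    refine hz1 (Subtype.ext ?_)
    have hgA : g ∈ A := hle (show π g ∈ Subgroup.zpowers z by rw [hgz]; exact Subgroup.mem_zpowers z)
    show z = 1
    rw [← hgz]
    exact (QuotientGroup.eq_one_iff g).2 hgA
  have hcardA : Nat.card A ≤ (c ^ p) ^ k :=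
    card_le_of_exponent_pow (fun a b => Subtype.ext (hAc a a.2 b b.2))
      (fun a => Subtype.ext (by rw [Subgroup.coe_pow]; exact hexp a)) (restrict hAi)
      (restrict_periodic hper hAi) ((card_fixSub_restrict_le φ hAi).trans hc)
  let θ : G →* MulAut A := MulAut.conjNormal
  have hker : θ.ker ≤ A := by
    refine le_trans (fun x hx => Subgroup.mem_centralizer_iff.2 fun a ha => ?_) hCA
    have h1 : x * a * x⁻¹ = a := by
      have := congrArg Subtype.val (DFunLike.congr_fun (MonoidHom.mem_ker.1 hx) ⟨a, ha⟩)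
      rwa [MulAut.conjNormal_apply] at this
    calc a * x = (x * a * x⁻¹) * x := by rw [h1]
      _ = x * a := by group
  rw [← Subgroup.card_mul_index A]
  refine Nat.mul_le_mul hcardA ?_
  calc A.index ≤ θ.ker.index := Nat.le_of_dvd (Nat.pos_of_ne_zero Subgroup.index_ne_zero_of_finite)
        (Subgroup.index_dvd_of_le hker)
    _ = Nat.card θ.range := Subgroup.index_ker θ
    _ ≤ Nat.card (MulAut A) := Subgroup.card_le_card_group _
    _ ≤ Nat.card A ^ Nat.card A := by
        rw [← Nat.card_fun]
        exact Nat.card_le_card_of_injective (fun f => (f : A → A))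
          fun f g e => MulEquiv.ext (congrFun e)
    _ ≤ ((c ^ p) ^ k) ^ ((c ^ p) ^ k) :=
        (Nat.pow_le_pow_left hcardA _).trans
          (Nat.pow_le_pow_right (Nat.card_pos.trans_le hcardA) hcardA)

end CfsgLib.Solvable.AlperinDerived
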