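import Cfsg.Agent.Lib.Solvable.FPFClassBound
import Cfsg.Agent.Lib.Solvable.AlperinDerived.Fixed

/-!
# The exponent of a high lower central factor

For an endomorphism of period `p` of a `p`-group with at most `p ^ n` fixed points the factor
`γ r / γ (r + 1)`, `r` the Higman-Kreknin-Kostrikin number, has exponent bounded by `p`, `n`.
-/

set_option autoImplicit false

open scoped TensorProduct commutatorElement

namespace CfsgLib.Solvable.AlperinDerived

open KrekninKostrikin AssocLieRing FPFClassBound FPFNilpotent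

/-- The Higman-Kreknin-Kostrikin number. -/
def hkk (p : ℕ) : ℕ := Finset.sum (Finset.range (2 ^ (p - 1) - 1)) (fun i => (p - 1) ^ i)

/-- The exponent. -/
def expo (p n : ℕ) : ℕ := (n + 1) * (hkk p + 1) + hkk p

section Graded

variable {L : Type*} [LieRing L] {p : ℕ}

/-- The eigencomponents multiplied by `m`. -/
noncomputable def scaled (φ : L →+ L) (m : ℕ) (k : ZMod p) : AddSubgroup (A p ⊗[ℤ] L) :=
  (eig (p := p) φ k).map (nsmulAddMonoidHom m)

theorem scaled_closed {φ : L →+ L} (hlie : ∀ x y : L, φ ⁅x, y⁆ = ⁅φ x, φ y⁆) (m : ℕ) :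
    Closed (scaled (p := p) φ m) := by
  rintro i j _ ⟨u, hu, rfl⟩ _ ⟨v, hv, rfl⟩
  refine ⟨m • ⁅u, v⁆, AddSubgroup.nsmul_mem _ (eig_closed hlie i j u hu v hv) m, ?_⟩
  simp only [nsmulAddMonoidHom_apply]
  rw [nsmul_lie, lie_nsmul]

theorem nsmul_eq_zero_of_mem_eig {φ : L →+ L} {m : ℕ}
    (horb : ∀ x : L, m • ∑ i ∈ Finset.range p, φ^[i] x = 0) {v : A p ⊗[ℤ] L}
    (hv : v ∈ eig φ 0) : (m * p) • v = 0 := by
  rw [mem_eig, om_zero, one_smul] at hv
  have hsum : ∀ w : A p ⊗[ℤ] L, m • ∑ i ∈ Finset.range p, (ext p φ)^[i] w = 0 := by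
    intro w
    induction w using TensorProduct.induction_on with
    | zero => simp
    | tmul a x =>
      rw [Finset.sum_congr rfl (fun i _ => ext_iterate φ a x i), ← TensorProduct.tmul_sum,
        ← TensorProduct.tmul_smul, horb, TensorProduct.tmul_zero]
    | add u w hu hw =>
      simp only [iterate_map_add, Finset.sum_add_distrib, smul_add, hu, hw, add_zero]
  have h := hsum v
  rwa [Finset.sum_congr rfl (fun i _ => Function.iterate_fixed hv i), Finset.sum_const,
    Finset.card_range, ← mul_nsmul'] at h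

theorem ee_tmul_mem_scaled [Fact p.Prime] {φ : L →+ L} (hper : ∀ x : L, φ^[p] x = x) {m : ℕ}
    (horb : ∀ x : L, m • ∑ i ∈ Finset.range p, φ^[i] x = 0) (x : L) :
    (m * p) • (ee p ⊗ₜ[ℤ] x) ∈ total (scaled (p := p) φ (m * p)) := by
  classical
  have hshift : ∀ i : ZMod p, φ (φ^[i.val] x) = φ^[(i + 1).val] x := by
    intro i
    rw [← Function.iterate_succ_apply' φ i.val x]
    have hlt := ZMod.val_lt i
    by_cases h : i.val + 1 < p
    · rw [ZMod.val_add_of_lt (by rwa [ZMod.val_one]), ZMod.val_one]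
    · have hi : i.val + 1 = p := by omega
      have h0 : i + 1 = 0 := by
        rw [← ZMod.natCast_zmod_val i, ← Nat.cast_one (R := ZMod p), ← Nat.cast_add, hi,
          ZMod.natCast_self]
      rw [h0, ZMod.val_zero, Nat.succ_eq_add_one, hi, hper]
      rfl
  let c : ZMod p → A p ⊗[ℤ] L := fun k => ∑ i : ZMod p, om (-(k * i)) ⊗ₜ φ^[i.val] x
  have hc : ∀ k, c k ∈ eig φ k := by
    intro k
    rw [mem_eig, map_sum, Finset.smul_sum]
    refine Fintype.sum_equiv (Equiv.addRight (1 : ZMod p)) _ _ fun i => ?_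
    rw [ext_tmul, hshift, TensorProduct.smul_tmul', Equiv.coe_addRight, smul_eq_mul, om_mul]
    congr 2
    ring
  have hinner : ∀ i : ZMod p,
      ∑ k : ZMod p, om (-(k * i)) = orb p + if i = 0 then ee p else 0 := by
    intro i
    by_cases hi : i = 0
    · subst hi
      rw [if_pos rfl, Finset.sum_congr rfl (fun k _ => by rw [mul_zero, neg_zero, om_zero]),
        Finset.sum_const, Finset.card_univ, ZMod.card, nsmul_eq_mul, mul_one, ee,
        add_sub_cancel]
    · rw [if_neg hi, add_zero, orb]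
      refine Fintype.sum_equiv ((Equiv.mulRight₀ i hi).trans (Equiv.neg _)) _ _ fun k => ?_
      rfl
  have hall : ∑ i : ZMod p, φ^[i.val] x = ∑ i ∈ Finset.range p, φ^[i] x := by
    refine Finset.sum_nbij (fun i => i.val) (fun i _ => Finset.mem_range.mpr (ZMod.val_lt i))
      (fun a _ b _ h => ZMod.val_injective p h) (fun m hm => ?_) (fun _ _ => rfl)
    exact ⟨(m : ZMod p), Finset.mem_univ _, ZMod.val_cast_of_lt (Finset.mem_range.mp hm)⟩
  have hdec : ∑ k, c k = orb p ⊗ₜ (∑ i ∈ Finset.range p, φ^[i] x) + ee p ⊗ₜ x := by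
    show ∑ k, ∑ i : ZMod p, om (-(k * i)) ⊗ₜ φ^[i.val] x = _
    rw [Finset.sum_comm, Finset.sum_congr rfl (fun i _ => (TensorProduct.sum_tmul _ _ _).symm),
      Finset.sum_congr rfl (fun i _ => by rw [hinner i, TensorProduct.add_tmul]),
      Finset.sum_add_distrib, ← TensorProduct.tmul_sum, hall,
      Finset.sum_eq_single (0 : ZMod p) (fun i _ hi => by rw [if_neg hi, TensorProduct.zero_tmul])
        (fun h => absurd (Finset.mem_univ _) h), if_pos rfl, ZMod.val_zero]
    rfl
  have h : (m * p) • (ee p ⊗ₜ[ℤ] x) = ∑ k, (m * p) • c k := by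
    rw [← Finset.smul_sum, hdec, smul_add, ← TensorProduct.tmul_smul (m * p) (orb p),
      show (m * p) • (∑ i ∈ Finset.range p, φ^[i] x) = 0 by rw [mul_nsmul, horb, smul_zero],
      TensorProduct.tmul_zero, zero_add]
  rw [h]
  exact sum_mem fun k _ => mem_total (A := scaled (p := p) φ (m * p)) ⟨c k, hc k, rfl⟩

theorem nsmul_eq_zero_of_ee_tmul [Fact p.Prime] (m : ℕ) {x : L}
    (h : (ee p ^ (m + 1)) ⊗ₜ[ℤ] x = 0) : p ^ m • x = 0 := by
  have hc : (ee p ^ (m + 1)).coeff (1 : ZMod p) = -((p : ℤ) ^ m) := by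
    have h1 : (ee p).coeff (1 : ZMod p) = -1 := by
      rw [ee, orb, AddMonoidAlgebra.coeff_sub, AddMonoidAlgebra.coeff_sum]
      rw [AddMonoidAlgebra.natCast_def, AddMonoidAlgebra.coeff_single, Finsupp.sub_apply,
        Finsupp.finsetSum_apply]
      simp [om, AddMonoidAlgebra.coeff_single, Finsupp.single_apply]
    rw [ee_pow, show (p : A p) ^ m = ((p ^ m : ℕ) : A p) from (Nat.cast_pow p m).symm,
      ← nsmul_eq_mul, AddMonoidAlgebra.coeff_smul_apply, h1]
    simp
  have h' := congrArg (coef (1 : ZMod p)) h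
  rwa [map_zero, coef_tmul, hc, neg_smul, neg_eq_zero, ← Nat.cast_pow, natCast_zsmul] at h'

end Graded

section Group

variable {G : Type*} [Group G] {α : G →* G} {p : ℕ}

theorem cls_pow {n : ℕ} {g : G} (hg : g ∈ γ G n) : ∀ m : ℕ, cls n (g ^ m) = m • cls n g
  | 0 => by rw [pow_zero, cls_one, zero_smul]
  | m + 1 => by rw [pow_succ, cls_mul (pow_mem hg m) hg, cls_pow hg m, succ_nsmul]

theorem phi_orb_nsmul [Fact p.Prime] [Finite G] (hG : IsPGroup p G) (hper : ∀ g, α^[p] g = g)
    {n : ℕ} (hfix : Nat.card (fixSub α) ≤ p ^ n) (x : LieR G) :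
    p ^ n • ∑ i ∈ Finset.range p, (phi α)^[i] x = 0 := by
  induction x using lie_induction with
  | h0 => simp
  | hadd u v hu hv =>
    simp only [iterate_map_add, Finset.sum_add_distrib, smul_add, hu, hv, add_zero]
  | hcls j g hg =>
    obtain ⟨h, hh, e⟩ : ∃ h ∈ γ G j, ∑ i ∈ Finset.range p, (phi α)^[i] (cls j g) = cls j h := by
      suffices ∀ m : ℕ, ∃ h ∈ γ G j, ∑ i ∈ Finset.range m, (phi α)^[i] (cls j g) = cls j h from
        this p
      intro m
      induction m with
      | zero => exact ⟨1, one_mem _, by rw [Finset.range_zero, Finset.sum_empty, cls_one]⟩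
      | succ m ih =>
        obtain ⟨h, hh, e⟩ := ih
        exact ⟨h * α^[m] g, mul_mem hh (iterate_mem α hg m), by
          rw [Finset.sum_range_succ, e, phi_iterate_cls α hg, cls_mul hh (iterate_mem α hg m)]⟩
    rw [e, ← cls_pow hh]
    have hfx : phi α (cls j h) = cls j h := by
      rw [← e, map_sum, Finset.sum_congr rfl
        (fun i _ => (Function.iterate_succ_apply' (phi α) i (cls j g)).symm)]
      have h1 := Finset.sum_range_succ' (fun i => (phi α)^[i] (cls j g)) p
      rw [Finset.sum_range_succ, phi_per hper, Function.iterate_zero_apply] at h1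
      exact (add_right_cancel h1).symm
    rw [phi_cls α hh] at hfx
    have hq := DirectSum.of_injective j hfx
    have hc : h⁻¹ * α h ∈ γ G (j + 1) := (q_eq_iff hh (map_mem α hh)).mp hq.symm
    have hinv : Invariant α (γ G (j + 1)) := fun x hx => map_mem α hx
    have hmem : (h : G ⧸ γ G (j + 1)) ∈ fixSub (quot hinv) := by
      show quot hinv _ = _
      rw [quot_mk]
      exact (QuotientGroup.eq.2 hc).symm
    obtain ⟨k, hk⟩ := ((hG.to_quotient _).to_subgroup (fixSub (quot hinv))).exists_card_eq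
    have hkn : k ≤ n := (Nat.pow_le_pow_iff_right (Fact.out : p.Prime).one_lt).1
      (hk ▸ (card_fixSub_quot_le hinv).trans hfix)
    have h1 : (⟨_, hmem⟩ : fixSub (quot hinv)) ^ p ^ n = 1 :=
      orderOf_dvd_iff_pow_eq_one.1 (orderOf_dvd_natCard _ |>.trans (hk ▸ pow_dvd_pow p hkn))
    have h2 : h ^ p ^ n ∈ γ G (j + 1) := by
      have := congrArg Subtype.val h1
      rw [Subgroup.coe_pow, ← QuotientGroup.mk_pow] at this
      exact (QuotientGroup.eq_one_iff _).1 this
    rw [cls, (q_eq_zero_iff (pow_mem hh _)).mpr h2, map_zero]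

/-- The factor `γ r / γ (r + 1)` has bounded exponent. -/
theorem pow_mem_γ_succ [Fact p.Prime] [Finite G] (hG : IsPGroup p G) (hper : ∀ g, α^[p] g = g)
    {n : ℕ} (hfix : Nat.card (fixSub α) ≤ p ^ n) {g : G} (hg : g ∈ γ G (hkk p)) :
    g ^ p ^ expo p n ∈ γ G (hkk p + 1) := by
  set r := hkk p with hr
  set e := p ^ n * p with he
  set N := scaled (p := p) (phi α) e with hN
  have horb := phi_orb_nsmul hG hper hfix
  have hzero : ∀ x ∈ N 0, x = 0 := by
    rintro _ ⟨v, hv, rfl⟩
    exact nsmul_eq_zero_of_mem_eig horb hv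
  have hW : ∀ (m : ℕ), ∀ x ∈ W G m,
      e ^ (m + 1) • ((ee p ^ (m + 1)) ⊗ₜ[ℤ] x) ∈ total (LCS N m) := by
    intro m
    induction m with
    | zero => intro x _; rw [pow_one, pow_one]; exact ee_tmul_mem_scaled (phi_per hper) horb x
    | succ m ih =>
      intro x hx
      induction hx using AddSubgroup.closure_induction with
      | mem z hz =>
        obtain ⟨u, hu, v, rfl⟩ := hz
        have key := total_br (ih u hu) (ee_tmul_mem_scaled (phi_per hper) horb v)
        rw [nsmul_lie, lie_nsmul, ← mul_nsmul', LieAlgebra.ExtendScalars.bracket_tmul, ← pow_succ, ← pow_succ] at key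
        exact key
      | zero => rw [TensorProduct.tmul_zero, smul_zero]; exact zero_mem _
      | add a b _ _ ha hb => rw [TensorProduct.tmul_add, smul_add]; exact add_mem ha hb
      | neg a _ ha => rw [TensorProduct.tmul_neg, smul_neg]; exact neg_mem ha
  have h := hW r (cls r g) (cls_mem_W r g hg)
  have hbot : total (LCS N r) = ⊥ := le_bot_iff.mp
    (iSup_le fun k => (LCS_eq_bot hzero (scaled_closed (phi_lie α) e) k).le)
  rw [hbot, AddSubgroup.mem_bot, ← TensorProduct.tmul_smul] at h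
  have h' := nsmul_eq_zero_of_ee_tmul r h
  rw [← mul_nsmul', ← cls_pow hg] at h'
  have hexp : p ^ r * e ^ (r + 1) = p ^ expo p n := by
    rw [he, ← pow_succ, ← pow_mul, ← pow_add]; congr 1; unfold expo; rw [← hr]; omega
  rw [hexp] at h'
  exact (q_eq_zero_iff (pow_mem hg _)).mp (DirectSum.of_injective r (h'.trans (map_zero _).symm))

end Group

end CfsgLib.Solvable.AlperinDerived
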