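import Cfsg.Agent.Lib.Solvable.AlperinDerived.PGroup
import Cfsg.Agent.Lib.Solvable.Cores
import Cfsg.Agent.Lib.PGroup.FrattiniFaithful
import Cfsg.Agent.Lib.Components.PComponents

/-!
# Alperin's derived length bound for solvable groups

A solvable group with an automorphism of order `p` with exactly `p ^ n` fixed points has derived
length bounded in terms of `p`, `n`.
-/

set_option autoImplicit false

namespace CfsgLib.Solvable.AlperinDerived

open CfsgLib.Solvable.FPFNilpotent

/-- The bound on the derived length of a solvable group. -/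
def sBound (p n : ℕ) : ℕ :=
  ((p ^ n) ^ p) ^ ((p ^ n) ^ p) + pBound p n + hkk p

theorem injective_of_periodic {X : Type*} {f : X → X} {p : ℕ} (hp : 0 < p)
    (h : ∀ x, f^[p] x = x) : Function.Injective f := fun a b e => by
  obtain ⟨m, rfl⟩ := Nat.exists_eq_succ_of_ne_zero hp.ne'
  rw [← h a, ← h b, Function.iterate_succ_apply, Function.iterate_succ_apply, e]

theorem derivedSeries_of_core {G : Type*} [Group G] [Finite G] [Group.IsSolvable G] {p : ℕ}
    [hp : Fact p.Prime] (hO : Cfsg.pPrimeCore p G = ⊥) (φ : G →* G) (hinj : Function.Injective φ)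
    (hper : ∀ x, φ^[p] x = x) {n : ℕ} (hfix : Nat.card (fixSub φ) ≤ p ^ n) :
    derivedSeries G (((p ^ n) ^ p) ^ ((p ^ n) ^ p) + pBound p n) = ⊥ := by
  set Q := Cfsg.pCore p G with hQ
  have hQi : Invariant φ Q := invariant_characteristic hinj Q
  have hQp : IsPGroup p Q := Cores.isPGroup_pCore p
  have hdQ := derivedSeries_pGroup hQp (restrict hQi) (restrict_periodic hper hQi)
    ((card_fixSub_restrict_le φ hQi).trans hfix)
  refine derivedSeries_add_eq_bot Q ?_ hdQ
  refine derivedSeries_le_of_card_quotient Q ?_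
  have hperQ := restrict_periodic hper hQi
  have hQinj : Function.Injective (restrict hQi) := fun a b h =>
    Subtype.ext (hinj (congrArg Subtype.val h :))
  have hFi : Invariant (restrict hQi) (frattini Q) := invariant_characteristic hQinj _
  have hV : Nat.card (Q ⧸ frattini Q) ≤ (p ^ n) ^ p :=
    card_le_of_exponent_prime (CfsgLib.PGroup.Frattini.quotient_mul_comm hQp) (CfsgLib.PGroup.Frattini.quotient_pow_eq_one hQp)
      (quot hFi) (quot_periodic hperQ hFi)
      ((card_fixSub_quot_le hFi).trans ((card_fixSub_restrict_le φ hQi).trans hfix))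
  have hmapF : ∀ g : G, (frattini Q).map (MulAut.conjNormal g : MulAut Q).toMonoidHom = frattini Q :=
    fun g => Subgroup.characteristic_iff_map_eq.1 inferInstance _
  let θ : G →* MulAut (Q ⧸ frattini Q) :=
    MonoidHom.mk' (fun g => QuotientGroup.congr _ _ (MulAut.conjNormal g) (hmapF g))
      fun a b => MulEquiv.ext fun x => by
        induction x using QuotientGroup.induction_on with
        | H m => simp [QuotientGroup.congr]
  have hker : θ.ker ≤ Q := by
    intro g hg
    refine CfsgLib.PGroup.FrattiniFaithful.mem_pCore_of_commutator_mem Fusion.PSolvable.psolvable_of_solvable hO g ?_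
    intro r hr
    have h1 := DFunLike.congr_fun (MonoidHom.mem_ker.1 hg) ((⟨r, hr⟩ : Q) : Q ⧸ frattini Q)
    have h2 : ((MulAut.conjNormal g (⟨r, hr⟩ : Q) : Q) : Q ⧸ frattini Q)
        = ((⟨r, hr⟩ : Q) : Q ⧸ frattini Q) := h1
    refine ⟨MulAut.conjNormal g (⟨r, hr⟩ : Q) * (⟨r, hr⟩ : Q)⁻¹, ?_, ?_⟩
    · rw [SetLike.mem_coe, ← QuotientGroup.eq_one_iff, QuotientGroup.mk_mul, QuotientGroup.mk_inv, h2, mul_inv_cancel]
    · simp [commutatorElement_def]
  rw [← Subgroup.index_eq_card]
  calc Q.index ≤ θ.ker.index :=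
        Nat.le_of_dvd (Nat.pos_of_ne_zero Subgroup.index_ne_zero_of_finite)
          (Subgroup.index_dvd_of_le hker)
    _ = Nat.card θ.range := Subgroup.index_ker θ
    _ ≤ Nat.card (MulAut (Q ⧸ frattini Q)) := Subgroup.card_le_card_group _
    _ ≤ Nat.card (Q ⧸ frattini Q) ^ Nat.card (Q ⧸ frattini Q) := by
        rw [← Nat.card_fun]
        exact Nat.card_le_card_of_injective (fun f => (f : Q ⧸ frattini Q → Q ⧸ frattini Q))
          fun f g e => MulEquiv.ext (congrFun e)
    _ ≤ _ := (Nat.pow_le_pow_left hV _).trans (Nat.pow_le_pow_right (Nat.card_pos.trans_le hV) hV)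

/-- **Alperin**: the derived length is bounded in terms of `p` and `n`. -/
theorem derivedSeries_eq_bot {G : Type*} [Group G] [Finite G] [Group.IsSolvable G] {p : ℕ}
    [hp : Fact p.Prime] (α : MulAut G) (hα : α ^ p = 1) {n : ℕ}
    (hfix : Nat.card {g : G // α g = g} = p ^ n) : derivedSeries G (sBound p n) = ⊥ := by
  set φ : G →* G := α.toMonoidHom with hφ
  have hper : ∀ x, φ^[p] x = x := fun x => by
    have : ∀ i : ℕ, φ^[i] x = (α ^ i) x := by
      intro i
      induction i with
      | zero => rfl
      | succ i ih => rw [Function.iterate_succ_apply', ih, pow_succ']; rfl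
    rw [this, hα]; rfl
  have hinj : Function.Injective φ := α.injective
  have hcard : Nat.card (fixSub φ) = p ^ n := hfix
  set K := Cfsg.pPrimeCore p G with hK
  have hKi : Invariant φ K := invariant_characteristic hinj K
  have hfpf : ∀ x : K, restrict hKi x = x → x = 1 := by
    intro x hx
    have h1 : (x : G) ∈ fixSub φ := congrArg Subtype.val hx
    have h2 : orderOf (x : G) ∣ p ^ n := by
      rw [← hcard, ← Subgroup.orderOf_mk (x : G) h1]; exact orderOf_dvd_natCard _
    have h3 : orderOf (x : G) ∣ Nat.card K := by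
      rw [Subgroup.orderOf_coe]; exact orderOf_dvd_natCard _
    have h4 := Nat.dvd_gcd h2 h3
    rw [Nat.Coprime.gcd_eq_one (((Cores.coprime_card_pPrimeCore p).symm).pow_left n), Nat.dvd_one,
      orderOf_eq_one_iff] at h4
    exact Subtype.ext h4
  have hK' : derivedSeries K (hkk p) = ⊥ := by
    refine le_bot_iff.1 ((Subgroup.derived_le_lower_central (hkk p)).trans (le_of_eq ?_))
    exact FPFClassBound.γ_eq_bot hfpf (restrict_periodic hper hKi) _
      fun N hz hN k => KrekninKostrikin.LCS_eq_bot hz hN k
  have hq : Function.Injective (quot hKi) :=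
    injective_of_periodic hp.out.pos (quot_periodic hper hKi)
  have hdQ := derivedSeries_of_core (CfsgLib.Components.pPrimeCore_quotient_eq_bot (p := p))
    (quot hKi) hq (quot_periodic hper hKi) ((card_fixSub_quot_le hKi).trans hcard.le)
  refine derivedSeries_add_eq_bot K ?_ hK'
  have h := map_derivedSeries_le_derivedSeries (QuotientGroup.mk' K)
    (((p ^ n) ^ p) ^ ((p ^ n) ^ p) + pBound p n)
  rwa [hdQ, le_bot_iff, Subgroup.map_eq_bot_iff, QuotientGroup.ker_mk'] at h

end CfsgLib.Solvable.AlperinDerived
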