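import Cfsg.Agent.Lib.Solvable.AlperinDerived.LieExponent

/-!
# Alperin's bound for the derived length of a `p`-group

A `p`-group with an endomorphism of period `p` with at most `p ^ n` fixed points has derived
length bounded in terms of `p`, `n`.
-/

set_option autoImplicit false

open scoped commutatorElement

namespace CfsgLib.Solvable.AlperinDerived

open CfsgLib.Solvable.FPFNilpotent
open CfsgLib.Solvable.AssocLieRing (γ)

variable {G : Type*} [Group G]

/-- The subgroup generated by the `m`-th powers. -/
def powSub (G : Type*) [Group G] (m : ℕ) : Subgroup G :=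
  Subgroup.closure (Set.range fun x : G => x ^ m)

theorem pow_mem_powSub (m : ℕ) (x : G) : x ^ m ∈ powSub G m := Subgroup.subset_closure ⟨x, rfl⟩

theorem powSub_map_le {H : Type*} [Group H] (f : G →* H) (m : ℕ) :
    (powSub G m).map f ≤ powSub H m := by
  rw [powSub, MonoidHom.map_closure, Subgroup.closure_le]
  rintro _ ⟨_, ⟨x, rfl⟩, rfl⟩
  show f (x ^ m) ∈ powSub H m
  rw [map_pow]
  exact pow_mem_powSub m (f x)

instance powSub_characteristic (m : ℕ) : (powSub G m).Characteristic :=
  Subgroup.characteristic_iff_map_le.2 fun e => powSub_map_le e.toMonoidHom m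

theorem powSub_invariant (φ : G →* G) (m : ℕ) : Invariant φ (powSub G m) :=
  fun x hx => powSub_map_le φ m ⟨x, hx, rfl⟩

theorem quot_powSub_pow (m : ℕ) (x : G ⧸ powSub G m) : x ^ m = 1 := by
  induction x using QuotientGroup.induction_on with
  | H g => rw [← QuotientGroup.mk_pow, QuotientGroup.eq_one_iff]; exact pow_mem_powSub m g

/-- In a `p`-group powers cannot stagnate. -/
theorem powSub_eq_bot {p : ℕ} [Fact p.Prime] [Finite G] (hG : IsPGroup p G) (N : ℕ)
    (h : ∀ x : G, x ^ p ^ N ∈ powSub G (p ^ (N + 1))) : powSub G (p ^ N) = ⊥ := by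
  set S := powSub G (p ^ N)
  have hfr : frattini S = ⊤ := by
    rw [eq_top_iff]
    intro x _
    have hle : S ≤ (frattini S).map S.subtype := by
      refine (Subgroup.closure_le _).2 ?_
      rintro _ ⟨y, rfl⟩
      have hle2 : powSub G (p ^ (N + 1)) ≤ (frattini S).map S.subtype := by
        refine (Subgroup.closure_le _).2 ?_
        rintro _ ⟨z, rfl⟩
        exact ⟨(⟨z ^ p ^ N, pow_mem_powSub _ z⟩ : S) ^ p,
          CfsgLib.PGroup.Frattini.pow_mem_frattini (hG.to_subgroup S) _,
          by show (z ^ p ^ N) ^ p = z ^ p ^ (N + 1); rw [← pow_mul, ← pow_succ]⟩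
      exact hle2 (h y)
    obtain ⟨y, hy, he⟩ := hle x.2
    exact (show y = x from Subtype.ext he) ▸ hy
  have := frattini_nongenerating (K := (⊥ : Subgroup S)) (by rw [hfr, bot_sup_eq])
  haveI : Subsingleton S := Subgroup.subsingleton_iff.1 (subsingleton_of_bot_eq_top this)
  exact Subgroup.eq_bot_of_subsingleton S

/-- The derived series of an extension. -/
theorem derivedSeries_add_eq_bot (N : Subgroup G) {a b : ℕ}
    (ha : derivedSeries G a ≤ N) (hb : derivedSeries N b = ⊥) : derivedSeries G (a + b) = ⊥ := by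
  suffices ∀ i, derivedSeries G (a + i) ≤ (derivedSeries N i).map N.subtype by
    have := this b
    rwa [hb, Subgroup.map_bot, le_bot_iff] at this
  intro i
  induction i with
  | zero => rwa [Nat.add_zero, derivedSeries_zero, ← MonoidHom.range_eq_map, Subgroup.range_subtype]
  | succ i ih =>
    rw [← Nat.add_assoc, derivedSeries_succ, derivedSeries_succ, Subgroup.map_commutator]
    exact Subgroup.commutator_mono ih ih

/-- In a solvable group of order at most `m` the `m`-th derived term is trivial. -/
theorem derivedSeries_eq_bot_of_card_le [Finite G] [Group.IsSolvable G] {m : ℕ}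
    (hm : Nat.card G ≤ m) : derivedSeries G m = ⊥ := by
  have key : ∀ i, derivedSeries G i = ⊥ ∨ Nat.card (derivedSeries G i) + i ≤ Nat.card G := by
    intro i
    induction i with
    | zero => exact Or.inr (by rw [derivedSeries_zero, Subgroup.card_top, Nat.add_zero])
    | succ i ih =>
      rcases ih with h | h
      · exact Or.inl (le_bot_iff.1 ((derivedSeries_antitone G (Nat.le_succ i)).trans h.le))
      by_cases hb : derivedSeries G i = ⊥
      · exact Or.inl (le_bot_iff.1 ((derivedSeries_antitone G (Nat.le_succ i)).trans hb.le))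
      right
      have hlt : derivedSeries G (i + 1) < derivedSeries G i := by
        refine lt_of_le_of_ne (derivedSeries_antitone G (Nat.le_succ i)) fun he => hb ?_
        obtain ⟨d, hd⟩ := ‹Group.IsSolvable G›
        have hst : ∀ j, derivedSeries G (i + j) = derivedSeries G i := by
          intro j
          induction j with
          | zero => rfl
          | succ j ihj => rw [← Nat.add_assoc, derivedSeries_succ, ihj, ← derivedSeries_succ, he]
        rw [← hst d]
        exact le_bot_iff.1 ((derivedSeries_antitone G (Nat.le_add_left d i)).trans hd.le)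
      have : Nat.card (derivedSeries G (i + 1)) < Nat.card (derivedSeries G i) := by
        refine lt_of_le_of_ne (Subgroup.card_le_of_le hlt.le) fun he => hlt.ne ?_
        exact Subgroup.eq_of_le_of_card_ge hlt.le he.ge
      omega
  rcases key m with h | h
  · exact h
  · exact Subgroup.eq_bot_of_card_le _ (by omega)

theorem derivedSeries_le_of_card_quotient [Finite G] [Group.IsSolvable G] (N : Subgroup G)
    [N.Normal] {m : ℕ} (hm : Nat.card (G ⧸ N) ≤ m) : derivedSeries G m ≤ N := by
  have h := map_derivedSeries_le_derivedSeries (QuotientGroup.mk' N) m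
  rwa [derivedSeries_eq_bot_of_card_le hm, le_bot_iff, Subgroup.map_eq_bot_iff,
    QuotientGroup.ker_mk'] at h

/-- The power used for the subgroup acting trivially on all small groups. -/
def pw (p n : ℕ) : ℕ :=
  bnd p (p ^ n) (expo p n + 1) ^ bnd p (p ^ n) (expo p n + 1)

/-- The bound on the derived length of a `p`-group. -/
def pBound (p n : ℕ) : ℕ :=
  bnd p (p ^ n) (pw p n) + (hkk p + bnd p (p ^ n) (expo p n))

/-- **Alperin**: the derived length of a `p`-group with few fixed points is bounded. -/
theorem derivedSeries_pGroup {p : ℕ} [hp : Fact p.Prime] [Finite G] (hG : IsPGroup p G)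
    (φ : G →* G) (hper : ∀ x, φ^[p] x = x) {n : ℕ} (hfix : Nat.card (fixSub φ) ≤ p ^ n) :
    derivedSeries G (pBound p n) = ⊥ := by
  classical
  haveI : Group.IsSolvable G := by haveI := hG.isNilpotent; infer_instance
  set r := hkk p with hr
  set N := expo p n with hN
  set k := N + 1 with hk
  set t := pw p n with ht
  set V := powSub G (p ^ t) with hV
  have hVi : Invariant φ V := powSub_invariant φ _
  set φV := restrict hVi
  have hperV := restrict_periodic hper hVi
  have hfixV : Nat.card (fixSub φV) ≤ p ^ n := (card_fixSub_restrict_le φ hVi).trans hfix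
  -- `M` is the `r`-th lower central term of `V`
  set M := (γ V r).map V.subtype with hM
  haveI : (γ V r).Characteristic := inferInstance
  haveI hMn : M.Normal := by rw [hM]; infer_instance
  have hMi : Invariant φ M := by
    rintro _ ⟨x, hx, rfl⟩
    exact ⟨φV x, FPFClassBound.map_mem φV hx, rfl⟩
  set φM := restrict hMi
  have hperM := restrict_periodic hper hMi
  have hfixM : Nat.card (fixSub φM) ≤ p ^ n := (card_fixSub_restrict_le φ hMi).trans hfix
  set U := powSub M (p ^ k) with hU
  have hUi : Invariant φM U := powSub_invariant φM _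
  have hX : Nat.card (M ⧸ U) ≤ bnd p (p ^ n) k :=
    card_le_bnd ((hG.to_subgroup M).to_quotient U) (quot_powSub_pow _) (quot hUi)
      (quot_periodic hperM hUi) ((card_fixSub_quot_le hUi).trans hfixM)
  -- `G` acts on `M / U`
  have hmapU : ∀ g : G, U.map (MulAut.conjNormal g : MulAut M).toMonoidHom = U := fun g =>
    Subgroup.characteristic_iff_map_eq.1 inferInstance _
  let θ : G →* MulAut (M ⧸ U) :=
    MonoidHom.mk' (fun g => QuotientGroup.congr U U (MulAut.conjNormal g) (hmapU g))
      fun a b => MulEquiv.ext fun x => by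
        induction x using QuotientGroup.induction_on with
        | H m => simp [QuotientGroup.congr]
  have hVker : V ≤ θ.ker := by
    rw [hV, powSub, Subgroup.closure_le]
    rintro _ ⟨x, rfl⟩
    show θ (x ^ p ^ t) = 1
    rw [map_pow]
    obtain ⟨j, hj⟩ := hG x
    have h1 : orderOf (θ x) ∣ p ^ j :=
      orderOf_dvd_of_pow_eq_one (by rw [← map_pow, hj, map_one])
    obtain ⟨i, -, hi⟩ := (Nat.dvd_prime_pow hp.out).1 h1
    refine orderOf_dvd_iff_pow_eq_one.1 (hi ▸ pow_dvd_pow p ?_)
    have h2 : p ^ i ≤ t := by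
      rw [← hi]
      refine le_trans (Nat.le_of_dvd Nat.card_pos (orderOf_dvd_natCard _)) ?_
      calc Nat.card (MulAut (M ⧸ U)) ≤ Nat.card (M ⧸ U) ^ Nat.card (M ⧸ U) := by
            rw [← Nat.card_fun]
            exact Nat.card_le_card_of_injective (fun f => (f : M ⧸ U → M ⧸ U))
              fun f g e => MulEquiv.ext (congrFun e)
        _ ≤ bnd p (p ^ n) k ^ bnd p (p ^ n) k :=
          (Nat.pow_le_pow_left hX _).trans (Nat.pow_le_pow_right (Nat.card_pos.trans_le hX) hX)
        _ = t := rfl
    exact (Nat.lt_pow_self hp.out.one_lt).le.trans h2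
  -- `[M, V] ≤ U`
  have hcomm : ∀ v ∈ V, ∀ m : M, ⟨v * m * v⁻¹, hMn.conj_mem _ m.2 v⟩ * m⁻¹ ∈ U := by
    intro v hv m
    have h1 := DFunLike.congr_fun (MonoidHom.mem_ker.1 (hVker hv)) (m : M ⧸ U)
    have h2 : ((MulAut.conjNormal v m : M) : M ⧸ U) = (m : M ⧸ U) := h1
    rw [← QuotientGroup.eq_one_iff, QuotientGroup.mk_mul, QuotientGroup.mk_inv,
      show (⟨v * m * v⁻¹, hMn.conj_mem _ m.2 v⟩ : M) = MulAut.conjNormal v m from
        Subtype.ext (MulAut.conjNormal_apply v m).symm, h2, mul_inv_cancel]
  have hγ : (γ V (r + 1)).map V.subtype ≤ U.map M.subtype := by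
    rw [AssocLieRing.γ_succ, Subgroup.map_commutator, Subgroup.commutator_le]
    rintro m hm _ ⟨v, -, rfl⟩
    refine ⟨(⟨(v : G) * m * (v : G)⁻¹, hMn.conj_mem _ hm v⟩ * (⟨m, hm⟩ : M)⁻¹)⁻¹,
      U.inv_mem (hcomm v v.2 ⟨m, hm⟩), ?_⟩
    simp [commutatorElement_def, mul_assoc]
  have hMexp : powSub M (p ^ N) = ⊥ := by
    refine powSub_eq_bot (hG.to_subgroup M) N fun m => ?_
    obtain ⟨x, hx, hxm⟩ := m.2
    obtain ⟨u, hu, hue⟩ := hγ ⟨_, pow_mem_γ_succ (hG.to_subgroup V) hperV hfixV hx, rfl⟩
    have : u = m ^ p ^ N := Subtype.ext (by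
      rw [Subgroup.coe_pow, ← hxm]
      simpa using hue)
    exact this ▸ hu
  have hMcard : Nat.card M ≤ bnd p (p ^ n) N := by
    refine card_le_bnd (hG.to_subgroup M) (fun m => ?_) φM hperM hfixM
    have := pow_mem_powSub (p ^ N) m
    rwa [hMexp, Subgroup.mem_bot] at this
  have hGV : derivedSeries G (bnd p (p ^ n) t) ≤ V := by
    refine derivedSeries_le_of_card_quotient V ?_
    exact card_le_bnd (hG.to_quotient V) (quot_powSub_pow _) (quot hVi) (quot_periodic hper hVi)
      ((card_fixSub_quot_le hVi).trans hfix)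
  have hVM : derivedSeries V (r + bnd p (p ^ n) N) = ⊥ := by
    refine derivedSeries_add_eq_bot (γ V r) (Subgroup.derived_le_lower_central r) ?_
    refine derivedSeries_eq_bot_of_card_le ?_
    rwa [← Subgroup.card_map_of_injective V.subtype_injective, ← hM]
  exact derivedSeries_add_eq_bot V hGV hVM

end CfsgLib.Solvable.AlperinDerived
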